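import Groth.Prelude.Def_RelProj
import Groth.Agent.Eg2Sym.Glue
import Mathlib.RingTheory.GradedAlgebra.RingHom
import Mathlib.RingTheory.Ideal.Quotient.Operations

/-!
# Quasi-coherent graded algebras from data on affine opens
-/

set_option autoImplicit false
set_option linter.unusedVariables false
set_option backward.isDefEq.respectTransparency false
set_option backward.isDefEq.respectTransparency.types false

universe u

open CategoryTheory CategoryTheory.Limits AlgebraicGeometry TopologicalSpace Opposite DirectSum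

noncomputable section

namespace Groth.Agent.Chow34

/-- Transport of a grading along an isomorphism. -/
@[instance_reducible]
def gradedRingOfEquiv {A B : Type u} [CommRing A] [CommRing B] (e : A ≃+* B) (𝒜 : ℕ → AddSubgroup B)
    [GradedRing 𝒜] (G : ℕ → AddSubgroup A) (hG : ∀ d a, a ∈ G d ↔ e a ∈ 𝒜 d) : GradedRing G :=
  let φ : ∀ d, 𝒜 d →+ G d := fun d =>
    (e.symm.toAddMonoidHom.comp (𝒜 d).subtype).codRestrict (G d)
      fun b => (hG d _).2 (by simp)
  have hφ : ∀ d (b : 𝒜 d), ((φ d b : G d) : A) = e.symm (b : B) := fun _ _ => rfl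
  { one_mem := (hG 0 1).2 (by rw [map_one]; exact SetLike.one_mem_graded 𝒜)
    mul_mem := fun i j a b ha hb => (hG _ _).2 (by
      rw [map_mul]; exact SetLike.mul_mem_graded ((hG _ _).1 ha) ((hG _ _).1 hb))
    decompose' := fun a => DirectSum.map φ (DirectSum.decompose 𝒜 (e a))
    left_inv := fun a => by
      classical
      have h : ∀ z : ⨁ d, 𝒜 d, DirectSum.coeAddMonoidHom G (DirectSum.map φ z) =
          e.symm (DirectSum.coeAddMonoidHom 𝒜 z) := by
        intro z
        induction z using DirectSum.induction_on with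
        | zero => simp
        | of d b => simp [hφ]
        | add x y hx hy => simp [map_add, hx, hy]
      rw [h]
      exact (congrArg e.symm (DirectSum.Decomposition.left_inv (ℳ := 𝒜) (e a))).trans (e.symm_apply_apply a)
    right_inv := fun z => by
      classical
      induction z using DirectSum.induction_on with
      | zero => simp
      | of d a =>
        have h : DirectSum.decompose 𝒜 (e (a : A)) = DirectSum.of (fun d => 𝒜 d) d ⟨e a, (hG d _).1 a.2⟩ :=
          DirectSum.decompose_coe 𝒜 (⟨e a, (hG d _).1 a.2⟩ : 𝒜 d)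
        beta_reduce
        rw [DirectSum.coeAddMonoidHom_of, h, DirectSum.map_of]
        exact congrArg _ (Subtype.ext ((hφ _ _).trans (e.symm_apply_apply _)))
      | add x y hx hy => beta_reduce at hx hy ⊢; rw [map_add, map_add, DirectSum.decompose_add, map_add, hx, hy] }

/-- The grading of a quotient. -/
def quotGr {A : Type u} [CommRing A] (𝒜 : ℕ → AddSubgroup A) (I : Ideal A) (n : ℕ) : AddSubgroup (A ⧸ I) :=
  (𝒜 n).map (Ideal.Quotient.mk I).toAddMonoidHom

theorem mk_mem_quotGr {A : Type u} [CommRing A] (𝒜 : ℕ → AddSubgroup A) (I : Ideal A) {n : ℕ} {a : A}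
    (ha : a ∈ 𝒜 n) : Ideal.Quotient.mk I a ∈ quotGr 𝒜 I n :=
  ⟨a, ha, rfl⟩

/-- The quotient of a graded ring by an ideal containing the components of its elements. -/
@[instance_reducible]
def quotGradedRing {A : Type u} [CommRing A] (𝒜 : ℕ → AddSubgroup A) [GradedRing 𝒜] (I : Ideal A)
    (hI : ∀ n a, a ∈ I → (DirectSum.decompose 𝒜 a n : A) ∈ I) : GradedRing (quotGr 𝒜 I) :=
  let ψ : ∀ d, 𝒜 d →+ quotGr 𝒜 I d := fun d =>
    ((Ideal.Quotient.mk I).toAddMonoidHom.comp (𝒜 d).subtype).codRestrict _ fun b => mk_mem_quotGr 𝒜 I b.2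
  let D : A →+ ⨁ d, quotGr 𝒜 I d := (DirectSum.map ψ).comp (DirectSum.decomposeAddEquiv 𝒜).toAddMonoidHom
  have hD : ∀ a ∈ I.toAddSubgroup, D a = 0 := fun a ha => DFinsupp.ext fun n => Subtype.ext (by
    show ((DirectSum.map ψ (DirectSum.decompose 𝒜 a)) n : A ⧸ I) = 0
    rw [DirectSum.map_apply]
    exact Ideal.Quotient.eq_zero_iff_mem.2 (hI n a ha))
  { one_mem := ⟨1, SetLike.one_mem_graded 𝒜, (Ideal.Quotient.mk I).map_one⟩
    mul_mem := by
      rintro i j _ _ ⟨a, ha, rfl⟩ ⟨b, hb, rfl⟩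
      exact ⟨a * b, SetLike.mul_mem_graded ha hb, (Ideal.Quotient.mk I).map_mul _ _⟩
    decompose' := QuotientAddGroup.lift I.toAddSubgroup D hD
    left_inv := fun x => by
      classical
      obtain ⟨a, rfl⟩ := Ideal.Quotient.mk_surjective x
      have h : ∀ z : ⨁ d, 𝒜 d, DirectSum.coeAddMonoidHom (quotGr 𝒜 I) (DirectSum.map ψ z) =
          Ideal.Quotient.mk I (DirectSum.coeAddMonoidHom 𝒜 z) := by
        intro z
        induction z using DirectSum.induction_on with
        | zero => simp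
        | of d b => simp [ψ]
        | add x y hx hy => simp [map_add, hx, hy]
      exact (h _).trans (congrArg _ (DirectSum.Decomposition.left_inv (ℳ := 𝒜) a))
    right_inv := fun z => by
      classical
      induction z using DirectSum.induction_on with
      | zero => simp
      | of d x =>
        obtain ⟨_, a, ha, rfl⟩ := x
        rw [DirectSum.coeAddMonoidHom_of]
        show DirectSum.map ψ (DirectSum.decompose 𝒜 a) = _
        rw [DirectSum.decompose_of_mem 𝒜 ha, DirectSum.map_of]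
        rfl
      | add x y hx hy => rw [map_add, map_add, hx, hy] }

variable {S : Scheme.{u}}

/-- A graded algebra given on the affine opens. -/
structure AffAlg (S : Scheme.{u}) where
  B : ∀ U : S.Opens, IsAffineOpen U → CommRingCat.{u}
  res : ∀ {U V : S.Opens} (hU : IsAffineOpen U) (hV : IsAffineOpen V), V ≤ U → (B U hU ⟶ B V hV)
  res_id : ∀ {U : S.Opens} (hU : IsAffineOpen U) (x : B U hU), res hU hU le_rfl x = x
  res_comp : ∀ {U V W : S.Opens} (hU : IsAffineOpen U) (hV : IsAffineOpen V) (hW : IsAffineOpen W)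
    (i : V ≤ U) (k : W ≤ V) (x : B U hU), res hV hW k (res hU hV i x) = res hU hW (k.trans i) x
  str : ∀ (U : S.Opens) (hU : IsAffineOpen U), Γ(S, U) ⟶ B U hU
  str_res : ∀ {U V : S.Opens} (hU : IsAffineOpen U) (hV : IsAffineOpen V) (i : V ≤ U) (r : Γ(S, U)),
    res hU hV i (str U hU r) = str V hV (S.presheaf.map (homOfLE i).op r)
  deg : ∀ (U : S.Opens) (hU : IsAffineOpen U), ℕ → AddSubgroup (B U hU)
  graded : ∀ (U : S.Opens) (hU : IsAffineOpen U), GradedRing (deg U hU)
  res_mem : ∀ {U V : S.Opens} (hU : IsAffineOpen U) (hV : IsAffineOpen V) (i : V ≤ U) {d : ℕ}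
    {x : B U hU}, x ∈ deg U hU d → res hU hV i x ∈ deg V hV d
  str_mem : ∀ (U : S.Opens) (hU : IsAffineOpen U) (r : Γ(S, U)), str U hU r ∈ deg U hU 0
  isLoc : ∀ (U : S.Opens) (hU : IsAffineOpen U) (r : Γ(S, U)),
    letI := (res hU (hU.basicOpen r) (S.basicOpen_le r)).hom.toAlgebra
    IsLocalization.Away (str U hU r) (B (S.basicOpen r) (hU.basicOpen r))

namespace AffAlg

variable (D : AffAlg S)

/-- The functor on the affine site. -/
def func : S.AffineZariskiSiteᵒᵖ ⥤ CommRingCat.{u} where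
  obj U := D.B U.unop.1 U.unop.2
  map {U V} i := D.res U.unop.2 V.unop.2 (Scheme.AffineZariskiSite.toOpens_mono i.unop.le)
  map_id U := CommRingCat.hom_ext (RingHom.ext fun x => D.res_id _ x)
  map_comp f g := CommRingCat.hom_ext (RingHom.ext fun x => (D.res_comp _ _ _ _ _ x).symm)

/-- The structure map on the affine site. -/
def strNat : (Scheme.AffineZariskiSite.toOpensFunctor S).op ⋙ S.presheaf ⟶ D.func where
  app U := D.str U.unop.1 U.unop.2
  naturality U V i := CommRingCat.hom_ext (RingHom.ext fun r => (D.str_res _ _ _ r).symm)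

theorem strNat_coequifibered : D.strNat.Coequifibered :=
  Scheme.AffineZariskiSite.coequifibered_iff_forall_isLocalizationAway.mpr fun U r => by
    have h := D.isLoc U.1 U.2 r
    with_unfolding_all exact h

/-- The glued algebra. -/
abbrev alg : RelSpec.QCAlg S := Eg2Sym.Glue.alg D.strNat_coequifibered

/-- The comparison with the given rings. -/
def e (U : S.Opens) (hU : IsAffineOpen U) : D.alg.presheaf.obj (op U) ≅ D.B U hU :=
  asIso (Eg2Sym.Glue.toF D.strNat_coequifibered ⟨U, hU⟩)

theorem e_str (U : S.Opens) (hU : IsAffineOpen U) (r : Γ(S, U)) :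
    (D.e U hU).hom ((D.alg.str.app (op U)).hom r) = D.str U hU r :=
  congr($(Eg2Sym.Glue.str_toF D.strNat_coequifibered ⟨U, hU⟩).hom r)

theorem e_res_basic {U V : S.Opens} (hU : IsAffineOpen U) (hV : IsAffineOpen V) (i : V ≤ U)
    (hb : ∃ r : Γ(S, U), S.basicOpen r = V) (x : D.alg.presheaf.obj (op U)) :
    (D.e V hV).hom ((D.alg.presheaf.map (homOfLE i).op).hom x) = D.res hU hV i ((D.e U hU).hom x) := by
  have h := Eg2Sym.Glue.toF_nat D.strNat_coequifibered
    (homOfLE (show @LE.le S.AffineZariskiSite _ ⟨V, hV⟩ ⟨U, hU⟩ from hb))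
  exact congr($(h).hom x)

theorem e_res {U V : S.Opens} (hU : IsAffineOpen U) (hV : IsAffineOpen V) (i : V ≤ U)
    (x : D.alg.presheaf.obj (op U)) :
    (D.e V hV).hom ((D.alg.presheaf.map (homOfLE i).op).hom x) = D.res hU hV i ((D.e U hU).hom x) := by
  let y := (D.e V hV).inv (D.res hU hV i ((D.e U hU).hom x))
  have hy : (D.e V hV).hom y = D.res hU hV i ((D.e U hU).hom x) := by
    rw [← CommRingCat.comp_apply, Iso.inv_hom_id]; rfl
  suffices (D.alg.presheaf.map (homOfLE i).op).hom x = y by rw [this, hy]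
  let F : TopCat.Sheaf CommRingCat.{u} S.carrier := ⟨D.alg.presheaf, D.alg.isSheaf⟩
  have hcov : ∀ z : V, ∃ (W : S.Opens) (hW : IsAffineOpen W), z.1 ∈ W ∧
      (∃ r : Γ(S, U), S.basicOpen r = W) ∧ (∃ r : Γ(S, V), S.basicOpen r = W) := fun z => by
    obtain ⟨f, g, h, hz⟩ := exists_basicOpen_le_affine_inter hU hV z.1 ⟨i z.2, z.2⟩
    exact ⟨S.basicOpen f, hU.basicOpen f, hz, ⟨f, rfl⟩, ⟨g, h.symm⟩⟩
  choose W hW hzW hWU hWV using hcov
  have hle : ∀ z, W z ≤ V := fun z => by obtain ⟨r, hr⟩ := hWV z; exact hr ▸ S.basicOpen_le r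
  refine F.eq_of_locally_eq' W V (fun z => homOfLE (hle z))
    (fun z hz => Opens.mem_iSup.2 ⟨⟨z, hz⟩, hzW _⟩) _ _ fun z => ?_
  apply (ConcreteCategory.bijective_of_isIso (D.e (W z) (hW z)).hom).1
  show (D.e (W z) (hW z)).hom ((D.alg.presheaf.map (homOfLE (hle z)).op).hom _) =
    (D.e (W z) (hW z)).hom ((D.alg.presheaf.map (homOfLE (hle z)).op).hom y)
  rw [D.e_res_basic hV (hW z) (hle z) (hWV z) y, hy, D.res_comp, ← D.e_res_basic hU (hW z) _ (hWU z)]
  refine congrArg _ ?_
  rw [← RingHom.comp_apply, ← CommRingCat.hom_comp, ← Functor.map_comp]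
  rfl

/-- The graded algebra. -/
def grAlg : RelProj.QCGrAlg S where
  toQCAlg := D.alg
  deg U hU d := (D.deg U hU d).comap (D.e U hU).hom.hom.toAddMonoidHom
  graded U hU :=
    letI := D.graded U hU
    gradedRingOfEquiv (D.e U hU).commRingCatIsoToRingEquiv (D.deg U hU) _ fun _ _ => Iff.rfl
  map_mem {U V} hU hV i {d x} hx := by
    show (D.e V hV).hom _ ∈ D.deg V hV d
    rw [D.e_res hU hV i x]
    exact D.res_mem hU hV i hx
  str_mem U hU r := by
    show (D.e U hU).hom _ ∈ D.deg U hU 0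
    rw [D.e_str]
    exact D.str_mem U hU r

theorem mem_deg {U : S.Opens} (hU : IsAffineOpen U) {d : ℕ} {x : D.alg.presheaf.obj (op U)} :
    x ∈ D.grAlg.deg U hU d ↔ (D.e U hU).hom x ∈ D.deg U hU d :=
  Iff.rfl

end AffAlg

end Groth.Agent.Chow34
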