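import Groth.Agent.Proj16.ClosedSub
import Groth.Agent.EgaQ.Rel
import Groth.Agent.Proj16.RelExist
import Groth.Prelude.Def_RelProj

/-!
# The homogeneous ideal of a closed subscheme of a relative `Proj`
-/

set_option autoImplicit false
set_option backward.isDefEq.respectTransparency false
set_option backward.isDefEq.respectTransparency.types false
set_option linter.unusedVariables false
set_option linter.style.haveILetI false

universe u

open SetLike DirectSum AlgebraicGeometry HomogeneousLocalization CategoryTheory CategoryTheory.Limits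
open TopologicalSpace Opposite
open scoped HomogeneousIdeal

noncomputable section

namespace Groth.Agent.Chow34

section graded

variable {A σ : Type u} [CommRing A] [SetLike σ A] [AddSubgroupClass σ A] (𝒜 : ℕ → σ) [GradedRing 𝒜]

lemma smul_one_mem {n : ℕ} {a : A} (ha : a ∈ 𝒜 n) : a ∈ 𝒜 (n • 1) := by simpa using ha

/-- `a / f ^ n`. -/
abbrev fracA {f : A} (hf : f ∈ 𝒜 1) (n : ℕ) (a : A) (ha : a ∈ 𝒜 n) : Away 𝒜 f :=
  Away.mk 𝒜 hf n a (smul_one_mem 𝒜 ha)

lemma fracA_congr {f : A} (hf : f ∈ 𝒜 1) {n m : ℕ} {a b : A} (ha : a ∈ 𝒜 n) (hb : b ∈ 𝒜 m)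
    (h : n = m) (h' : a = b) : fracA 𝒜 hf n a ha = fracA 𝒜 hf m b hb := by
  subst h h'; rfl

lemma fracA_add {f : A} (hf : f ∈ 𝒜 1) (n : ℕ) (a b : A) (ha : a ∈ 𝒜 n) (hb : b ∈ 𝒜 n) :
    fracA 𝒜 hf n (a + b) (add_mem ha hb) = fracA 𝒜 hf n a ha + fracA 𝒜 hf n b hb := by
  apply HomogeneousLocalization.val_injective
  simp only [fracA, Away.val_mk, HomogeneousLocalization.val_add, Localization.add_mk_self]

lemma fracA_mul {f : A} (hf : f ∈ 𝒜 1) (m n : ℕ) (c a : A) (hc : c ∈ 𝒜 m) (ha : a ∈ 𝒜 n) :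
    fracA 𝒜 hf (m + n) (c * a) (SetLike.mul_mem_graded hc ha) = fracA 𝒜 hf m c hc * fracA 𝒜 hf n a ha := by
  apply HomogeneousLocalization.val_injective
  simp only [fracA, Away.val_mk, HomogeneousLocalization.val_mul, Localization.mk_mul]
  congr 1
  exact Subtype.ext (pow_add f m n)

lemma fracA_zero {f : A} (hf : f ∈ 𝒜 1) (n : ℕ) (h : (0 : A) ∈ 𝒜 n) : fracA 𝒜 hf n 0 h = 0 := by
  apply HomogeneousLocalization.val_injective
  simp [fracA, Away.val_mk, Localization.mk_zero]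

lemma fracA_self {f : A} (hf : f ∈ 𝒜 1) : fracA 𝒜 hf 1 f hf = 1 := by
  apply HomogeneousLocalization.val_injective
  rw [fracA, Away.val_mk, HomogeneousLocalization.val_one, ← Localization.mk_one, Localization.mk_eq_mk_iff,
    Localization.r_iff_exists]
  exact ⟨1, by simp⟩

lemma fracA_fromZero {f : A} (hf : f ∈ 𝒜 1) (c : 𝒜 0) :
    fracA 𝒜 hf 0 (c : A) c.2 = fromZeroRingHom 𝒜 (Submonoid.powers f) c := by
  apply HomogeneousLocalization.val_injective
  show (Away.mk 𝒜 hf 0 (c : A) _).val = Localization.mk (c : A) 1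
  rw [Away.val_mk]
  congr 1
  exact Subtype.ext (pow_zero f)

/-- Divide a homogeneous element by a smaller power. -/
lemma fracA_pow_mul {f : A} (hf : f ∈ 𝒜 1) (m n : ℕ) (a : A) (ha : a ∈ 𝒜 n) (h : f ^ m * a ∈ 𝒜 (m + n)) :
    fracA 𝒜 hf (m + n) (f ^ m * a) h = fracA 𝒜 hf n a ha := by
  apply HomogeneousLocalization.val_injective
  simp only [fracA, Away.val_mk, Localization.mk_eq_mk_iff, Localization.r_iff_exists]
  exact ⟨1, by simp [pow_add]; ring⟩

end graded

variable {S P Z : Scheme.{u}} (𝒜 : RelProj.QCGrAlg S) {p : P ⟶ S}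
  (chart : ∀ (U : S.Opens) (hU : IsAffineOpen U), (((p ⁻¹ᵁ U : P.Opens) : Scheme.{u}) ≅ Proj (𝒜.deg U hU)))
  (i : Z ⟶ P)

variable {U : S.Opens} (hU : IsAffineOpen U)

/-- The ideal of the closed subscheme on the chart of `f`. -/
def chartJ {f : 𝒜.presheaf.obj (op U)} (hf : f ∈ 𝒜.deg U hU 1) : Ideal (Away (𝒜.deg U hU) f) :=
  Proj16.chartIdeal i.ker (Proj.awayι (𝒜.deg U hU) f hf one_pos ≫ RelProj.emb p chart U hU)

/-- A homogeneous element vanishes on the closed subscheme. -/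
def InI (n : ℕ) (a : 𝒜.presheaf.obj (op U)) : Prop :=
  ∀ f (hf : f ∈ 𝒜.deg U hU 1) (ha : a ∈ 𝒜.deg U hU n), fracA _ hf n a ha ∈ chartJ 𝒜 chart i hU hf

/-- The homogeneous ideal. -/
def subI : Ideal (𝒜.presheaf.obj (op U)) where
  carrier := {x | ∀ n, InI 𝒜 chart i hU n (GradedRing.proj (𝒜.deg U hU) n x)}
  zero_mem' := fun n f hf ha => by simp only [map_zero, fracA_zero, Ideal.zero_mem]
  add_mem' := fun {x y} hx hy n f hf ha => by
    simp only [map_add]
    rw [fracA_add _ hf n (GradedRing.proj _ n x) (GradedRing.proj _ n y) (SetLike.coe_mem _)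
      (SetLike.coe_mem _)]
    exact add_mem (hx n f hf (SetLike.coe_mem _)) (hy n f hf (SetLike.coe_mem _))
  smul_mem' := fun c x hx => by
    induction c using DirectSum.Decomposition.inductionOn (𝒜.deg U hU) with
    | zero =>
      intro n f hf ha
      simp only [zero_smul, map_zero, fracA_zero, Ideal.zero_mem]
    | @homogeneous m c =>
      intro n f hf ha
      by_cases h : m ≤ n
      · obtain ⟨k, rfl⟩ := Nat.exists_eq_add_of_le h
        have e : GradedRing.proj (𝒜.deg U hU) (m + k) ((c : 𝒜.presheaf.obj (op U)) • x) =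
            (c : 𝒜.presheaf.obj (op U)) * GradedRing.proj (𝒜.deg U hU) k x := by
          rw [smul_eq_mul, GradedRing.proj_apply, DirectSum.coe_decompose_mul_add_of_left_mem _ c.2,
            GradedRing.proj_apply]
        simp only [e]
        rw [fracA_mul _ hf m k _ (GradedRing.proj _ k x) c.2 (SetLike.coe_mem _)]
        exact Ideal.mul_mem_left _ _ (hx k f hf (SetLike.coe_mem _))
      · have e : GradedRing.proj (𝒜.deg U hU) n ((c : 𝒜.presheaf.obj (op U)) • x) = 0 := by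
          rw [smul_eq_mul, GradedRing.proj_apply,
            DirectSum.coe_decompose_mul_of_left_mem_of_not_le _ c.2 h]
        simp only [e, fracA_zero, Ideal.zero_mem]
    | add c d hc hd =>
      intro n f hf ha
      simp only [add_smul, map_add]
      rw [fracA_add _ hf n (GradedRing.proj _ n (c • x)) (GradedRing.proj _ n (d • x))
        (SetLike.coe_mem _) (SetLike.coe_mem _)]
      exact add_mem (hc n f hf (SetLike.coe_mem _)) (hd n f hf (SetLike.coe_mem _))

theorem mem_subI_iff {n : ℕ} {a : 𝒜.presheaf.obj (op U)} (ha : a ∈ 𝒜.deg U hU n) :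
    a ∈ subI 𝒜 chart i hU ↔ InI 𝒜 chart i hU n a := by
  constructor
  · intro h f hf hb
    have := h n
    simp only [InI, GradedRing.proj_apply, DirectSum.decompose_of_mem_same _ ha] at this
    exact this f hf hb
  · intro h m f hf hb
    by_cases hm : n = m
    · subst hm
      simp only [GradedRing.proj_apply, DirectSum.decompose_of_mem_same _ ha]
      exact h f hf ha
    · simp only [GradedRing.proj_apply, DirectSum.decompose_of_mem_ne _ ha hm, fracA_zero, Ideal.zero_mem]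

theorem decompose_mem_subI (n : ℕ) (a : 𝒜.presheaf.obj (op U)) (ha : a ∈ subI 𝒜 chart i hU) :
    (DirectSum.decompose (𝒜.deg U hU) a n : 𝒜.presheaf.obj (op U)) ∈ subI 𝒜 chart i hU :=
  (mem_subI_iff 𝒜 chart i hU (SetLike.coe_mem _)).2 (ha n)

/-- `s` spans the degree-one part over the base. -/
def Spans (s : Finset (𝒜.presheaf.obj (op U))) : Prop :=
  (∀ g ∈ s, g ∈ 𝒜.deg U hU 1) ∧ ∀ f ∈ 𝒜.deg U hU 1, ∃ c : 𝒜.presheaf.obj (op U) → Γ(S, U),
    f = ∑ g ∈ s, (𝒜.str.app (op U)).hom (c g) * g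

theorem exists_spans (hFT : 𝒜.IsFTDeg 1) : ∃ s, Spans 𝒜 hU s := by
  obtain ⟨T, h1, h2⟩ := hFT U hU
  exact ⟨T, fun g hg => h1 hg, h2⟩

/-- Vanishing on the chart of `g` gives vanishing on the chart of `f` up to a power of `g / f`. -/
theorem exists_pow_mul_mem {f g : 𝒜.presheaf.obj (op U)} (hf : f ∈ 𝒜.deg U hU 1) (hg : g ∈ 𝒜.deg U hU 1)
    {n : ℕ} {a : 𝒜.presheaf.obj (op U)} (ha : a ∈ 𝒜.deg U hU n)
    (h : fracA _ hg n a ha ∈ chartJ 𝒜 chart i hU hg) :
    ∃ k : ℕ, fracA _ hf 1 g hg ^ k * fracA _ hf n a ha ∈ chartJ 𝒜 chart i hU hf := by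
  let D := 𝒜.deg U hU
  let j := fun (h : 𝒜.presheaf.obj (op U)) (hh : h ∈ D 1) => Proj.awayι D h hh one_pos ≫ RelProj.emb p chart U hU
  letI := (awayMap D hg (rfl : f * g = f * g)).toAlgebra
  have hloc := Away.isLocalization_mul hf hg (rfl : f * g = f * g) one_ne_zero
  let e := Away.isLocalizationElem hf hg
  have he : e = fracA _ hf 1 g hg := by
    apply HomogeneousLocalization.val_injective
    simp [e, Away.isLocalizationElem, fracA, Away.val_mk]
  let w := Proj.awayι D (f * g) (SetLike.mul_mem_graded hf hg) two_pos ≫ RelProj.emb p chart U hU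
  have w1 : Proj16.chartIdeal i.ker w = (chartJ 𝒜 chart i hU hf).map (awayMap D hg rfl) :=
    (congrArg (Proj16.chartIdeal i.ker) (Proj.SpecMap_awayMap_awayι_assoc D hf one_pos hg rfl _).symm).trans
      (Proj16.chartIdeal_comp i.ker _ _)
  have w2 : Proj16.chartIdeal i.ker w = (chartJ 𝒜 chart i hU hg).map (awayMap D hf (mul_comm f g)) :=
    (congrArg (Proj16.chartIdeal i.ker) (Proj.SpecMap_awayMap_awayι_assoc D hg one_pos hf (mul_comm f g) _).symm).trans
      (Proj16.chartIdeal_comp i.ker _ _)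
  have h2 : awayMap D hg rfl (fracA D hf n a ha) =
      awayMap D hf (mul_comm f g) (fracA D hg n a ha) * awayMap D hg rfl (fracA D hf 1 g hg) ^ n := by
    apply HomogeneousLocalization.val_injective
    simp only [fracA, awayMap_mk, HomogeneousLocalization.val_mul,
      HomogeneousLocalization.val_pow, Away.val_mk, Localization.mk_pow, Localization.mk_mul]
    rw [Localization.mk_eq_mk_iff, Localization.r_iff_exists]
    refine ⟨1, ?_⟩
    simp only [OneMemClass.coe_one, one_mul, Submonoid.coe_mul, SubmonoidClass.coe_pow, pow_one, mul_pow]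
    ring
  have h3 : algebraMap (Away D f) (Away D (f * g)) (fracA D hf n a ha) ∈
      (chartJ 𝒜 chart i hU hf).map (algebraMap (Away D f) (Away D (f * g))) := by
    rw [RingHom.algebraMap_toAlgebra, h2, ← w1, w2]
    exact Ideal.mul_mem_right _ _ (Ideal.mem_map_of_mem _ h)
  obtain ⟨_, ⟨k, rfl⟩, hk⟩ :=
    (IsLocalization.algebraMap_mem_map_algebraMap_iff (Submonoid.powers e) _ _ _).mp h3
  exact ⟨k, he ▸ hk⟩

/-- Vanishing on the charts of spanning elements is enough. -/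
theorem inI_of_spans {s : Finset (𝒜.presheaf.obj (op U))} (hs : Spans 𝒜 hU s) {n : ℕ}
    {a : 𝒜.presheaf.obj (op U)} (ha : a ∈ 𝒜.deg U hU n)
    (h : ∀ g (hg : g ∈ s), fracA _ (hs.1 g hg) n a ha ∈ chartJ 𝒜 chart i hU (hs.1 g hg)) :
    InI 𝒜 chart i hU n a := by
  classical
  intro f hf _
  let D := 𝒜.deg U hU
  let x := fracA D hf n a ha
  let K : Ideal (Away D f) := Submodule.comap (LinearMap.mulRight (Away D f) x) (chartJ 𝒜 chart i hU hf)
  have hK : ∀ r, r ∈ K ↔ r * x ∈ chartJ 𝒜 chart i hU hf := fun r => Iff.rfl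
  obtain ⟨c, hc⟩ := hs.2 f hf
  have key : ∀ t ⊆ s, ∀ hm : ∑ g ∈ t, (𝒜.str.app (op U)).hom (c g) * g ∈ D 1,
      fracA D hf 1 (∑ g ∈ t, (𝒜.str.app (op U)).hom (c g) * g) hm ∈ K.radical := by
    intro t
    induction t using Finset.induction with
    | empty => intro _ hm; simp only [Finset.sum_empty, fracA_zero]; exact Ideal.zero_mem _
    | insert g t hgt ih =>
      intro hsub hm
      have hg := hsub (Finset.mem_insert_self g t)
      have hgm : (𝒜.str.app (op U)).hom (c g) * g ∈ D 1 := by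
        have := SetLike.mul_mem_graded (A := D) (𝒜.str_mem U hU (c g)) (hs.1 g hg)
        rwa [zero_add] at this
      have htm : ∑ g ∈ t, (𝒜.str.app (op U)).hom (c g) * g ∈ D 1 := sum_mem fun g' hg' => by
        have := SetLike.mul_mem_graded (A := D) (𝒜.str_mem U hU (c g'))
          (hs.1 g' (hsub (Finset.mem_insert_of_mem hg')))
        rwa [zero_add] at this
      rw [fracA_congr D hf hm (add_mem hgm htm) rfl (Finset.sum_insert hgt), fracA_add D hf 1 _ _ hgm htm]
      refine add_mem ?_ (ih ((Finset.subset_insert g t).trans hsub) htm)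
      rw [fracA_congr D hf hgm (SetLike.mul_mem_graded (𝒜.str_mem U hU (c g)) (hs.1 g hg)) (zero_add 1).symm rfl,
        fracA_mul D hf 0 1 _ _ (𝒜.str_mem U hU (c g)) (hs.1 g hg)]
      refine Ideal.mul_mem_left _ _ ?_
      obtain ⟨k, hk⟩ := exists_pow_mul_mem 𝒜 chart i hU hf (hs.1 g hg) ha (h g hg)
      exact ⟨k, (hK _).2 hk⟩
  have h1 : (1 : Away D f) ∈ K := by
    have h1 : (1 : Away D f) ∈ K.radical := by
      rw [← fracA_self D hf, fracA_congr D hf hf (hc ▸ hf) rfl hc]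
      exact key s subset_rfl _
    rw [← Ideal.eq_top_iff_one, ← Ideal.radical_eq_top, Ideal.eq_top_iff_one]
    exact h1
  have := (hK 1).1 h1
  rwa [one_mul] at this

/-- A power of `f` puts an element vanishing on the chart of `f` into the ideal. -/
theorem exists_pow_mul_mem_subI {s : Finset (𝒜.presheaf.obj (op U))} (hs : Spans 𝒜 hU s)
    {f : 𝒜.presheaf.obj (op U)} (hf : f ∈ 𝒜.deg U hU 1) {n : ℕ} {a : 𝒜.presheaf.obj (op U)}
    (ha : a ∈ 𝒜.deg U hU n) (h : fracA _ hf n a ha ∈ chartJ 𝒜 chart i hU hf) :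
    ∃ k : ℕ, f ^ k * a ∈ subI 𝒜 chart i hU := by
  classical
  let D := 𝒜.deg U hU
  choose k hk using fun g : s => exists_pow_mul_mem 𝒜 chart i hU (hs.1 g.1 g.2) hf ha h
  have hpow : ∀ m, f ^ m ∈ D m := fun m => by simpa using SetLike.pow_mem_graded (A := D) m hf
  let M := Finset.univ.sup k
  refine ⟨M, (mem_subI_iff 𝒜 chart i hU (SetLike.mul_mem_graded (hpow M) ha)).2
    (inI_of_spans 𝒜 chart i hU hs (SetLike.mul_mem_graded (hpow M) ha) fun g hg => ?_)⟩
  obtain ⟨l, hl⟩ := Nat.exists_eq_add_of_le (Finset.le_sup (f := k) (Finset.mem_univ (⟨g, hg⟩ : s)))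
  rw [fracA_mul D (hs.1 g hg) M n (f ^ M) a (hpow M) ha]
  have e : ∀ m, fracA D (hs.1 g hg) m (f ^ m) (hpow m) = fracA D (hs.1 g hg) 1 f hf ^ m := fun m => by
    apply HomogeneousLocalization.val_injective
    simp [fracA, Away.val_mk, HomogeneousLocalization.val_pow, Localization.mk_pow]
  rw [e, show M = l + k ⟨g, hg⟩ from hl.trans (Nat.add_comm _ _), pow_add, mul_assoc]
  exact Ideal.mul_mem_left _ _ (hk ⟨g, hg⟩)

section restriction

variable {D : S.Opens} (hD : IsAffineOpen D) (le : D ≤ U)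

/-- Restrictions of charts. -/
theorem chartJ_res (hP : RelProj.IsRelProj 𝒜 p chart) (hb : ∃ r : Γ(S, U), S.basicOpen r = D)
    {f : 𝒜.presheaf.obj (op U)} (hf : f ∈ 𝒜.deg U hU 1) :
    chartJ 𝒜 chart i hD ((𝒜.res hU hD le).map_mem hf) =
      (chartJ 𝒜 chart i hU hf).map (Away.map (𝒜.res hU hD le) f) := by
  refine Eq.trans ?_ (Proj16.chartIdeal_comp i.ker _ (CommRingCat.ofHom (Away.map (𝒜.res hU hD le) f)))
  refine congrArg (Proj16.chartIdeal i.ker) ?_
  rw [← EgaQ.map_res_emb' hP hU hD le hb]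
  erw [Proj.awayι_comp_map_assoc _ _ one_pos f hf]

theorem spans_res (hb : ∃ r : Γ(S, U), S.basicOpen r = D) [DecidableEq (𝒜.presheaf.obj (op D))]
    {s : Finset (𝒜.presheaf.obj (op U))} (hs : Spans 𝒜 hU s) :
    Spans 𝒜 hD (s.image (𝒜.res hU hD le)) := by
  classical
  obtain ⟨r, rfl⟩ := hb
  let ρ := 𝒜.res hU hD le
  refine ⟨fun g hg => ?_, fun x hx => ?_⟩
  · obtain ⟨g', hg', rfl⟩ := Finset.mem_image.1 hg
    exact ρ.map_mem (hs.1 g' hg')
  letI := (𝒜.presheaf.map (homOfLE (S.basicOpen_le r)).op).hom.toAlgebra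
  have hloc : IsLocalization.Away ((𝒜.str.app (op U)).hom r) (𝒜.presheaf.obj (op (S.basicOpen r))) :=
    𝒜.isQC U hU r
  obtain ⟨⟨y, _, k, rfl⟩, hy⟩ := IsLocalization.surj (Submonoid.powers ((𝒜.str.app (op U)).hom r)) x
  change x * ρ ((𝒜.str.app (op U)).hom r ^ k) = ρ y at hy
  have hstr : ∀ c, ρ ((𝒜.str.app (op U)).hom c) =
      (𝒜.str.app (op (S.basicOpen r))).hom (S.presheaf.map (homOfLE le).op c) := fun c =>
    (congr($(𝒜.str.naturality (homOfLE le).op).hom c)).symm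
  obtain ⟨c, hc⟩ := hs.2 _ (SetLike.coe_mem (DirectSum.decompose (𝒜.deg U hU) y 1))
  have hu : IsUnit (S.presheaf.map (homOfLE le).op r) := S.toRingedSpace.isUnit_res_basicOpen r
  obtain ⟨v, hv⟩ := hu
  let c' : 𝒜.presheaf.obj (op (S.basicOpen r)) → Γ(S, S.basicOpen r) := fun g =>
    ((v ^ k)⁻¹ : (Γ(S, S.basicOpen r))ˣ) *
      ∑ g' ∈ s.filter (fun g' => ρ g' = g), S.presheaf.map (homOfLE le).op (c g')
  refine ⟨c', ?_⟩
  have h1 : x * (𝒜.str.app (op (S.basicOpen r))).hom (v ^ k : (Γ(S, S.basicOpen r))ˣ) =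
      ρ (DirectSum.decompose (𝒜.deg U hU) y 1 : 𝒜.presheaf.obj (op U)) := by
    rw [GradedRingHom.map_directSumDecompose, ← hy, map_pow, hstr, Units.val_pow_eq_pow_val, hv, map_pow]
    refine (DirectSum.decompose_of_mem_same _ ?_).symm
    have h0 := SetLike.pow_mem_graded (A := 𝒜.deg (S.basicOpen r) hD) k
      (𝒜.str_mem _ hD (S.presheaf.map (homOfLE le).op r))
    rw [smul_zero] at h0
    have := SetLike.mul_mem_graded (A := 𝒜.deg (S.basicOpen r) hD) hx h0
    rwa [add_zero] at this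
  have h2 : x = (𝒜.str.app (op (S.basicOpen r))).hom (((v ^ k)⁻¹ : (Γ(S, S.basicOpen r))ˣ)) *
      ρ (DirectSum.decompose (𝒜.deg U hU) y 1 : 𝒜.presheaf.obj (op U)) := by
    rw [← h1, mul_left_comm, ← map_mul, Units.inv_mul, map_one, mul_one]
  rw [h2, hc]
  refine Eq.trans (b := (𝒜.str.app (op (S.basicOpen r))).hom (((v ^ k)⁻¹ : (Γ(S, S.basicOpen r))ˣ)) *
    ∑ g ∈ s, (𝒜.str.app (op (S.basicOpen r))).hom (S.presheaf.map (homOfLE le).op (c g)) * ρ g) ?_ ?_
  · refine congrArg _ ((map_sum ρ _ _).trans (Finset.sum_congr rfl fun g _ => ?_))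
    rw [map_mul, hstr]
  · rw [Finset.mul_sum]
    refine (Finset.sum_image' (fun g => (𝒜.str.app (op (S.basicOpen r))).hom
      (((v ^ k)⁻¹ : (Γ(S, S.basicOpen r))ˣ)) *
      ((𝒜.str.app (op (S.basicOpen r))).hom (S.presheaf.map (homOfLE le).op (c g)) * ρ g)) fun g hg => ?_).symm
    simp only [c', map_mul, map_sum, Finset.mul_sum, Finset.sum_mul]
    exact Finset.sum_congr rfl fun g' hg' => by rw [(Finset.mem_filter.1 hg').2, mul_assoc]

/-- The ideal restricts into the ideal on basic opens. -/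
theorem res_mem_subI_basic (hP : RelProj.IsRelProj 𝒜 p chart) (hFT : 𝒜.IsFTDeg 1)
    (hb : ∃ r : Γ(S, U), S.basicOpen r = D) {n : ℕ} {a : 𝒜.presheaf.obj (op U)} (ha : a ∈ 𝒜.deg U hU n)
    (h : a ∈ subI 𝒜 chart i hU) : 𝒜.res hU hD le a ∈ subI 𝒜 chart i hD := by
  classical
  obtain ⟨s, hs⟩ := exists_spans 𝒜 hU hFT
  let ρ := 𝒜.res hU hD le
  refine (mem_subI_iff 𝒜 chart i hD (ρ.map_mem ha)).2
    (inI_of_spans 𝒜 chart i hD (spans_res 𝒜 hU hD le hb hs) (ρ.map_mem ha) fun g hg => ?_)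
  obtain ⟨g', hg', rfl⟩ := Finset.mem_image.1 hg
  rw [chartJ_res 𝒜 chart i hU hD le hP hb (hs.1 g' hg')]
  have h' := Ideal.mem_map_of_mem (Away.map ρ g') ((mem_subI_iff 𝒜 chart i hU ha).1 h g' (hs.1 g' hg') ha)
  rwa [Away.map_mk] at h'

/-- The restriction of the ideal to a basic open is the localization. -/
theorem exists_pow_str_mul_mem {r : Γ(S, U)} (hP : RelProj.IsRelProj 𝒜 p chart) (hFT : 𝒜.IsFTDeg 1)
    {n : ℕ} {a : 𝒜.presheaf.obj (op U)} (ha : a ∈ 𝒜.deg U hU n)
    (h : 𝒜.res hU (hU.basicOpen r) (S.basicOpen_le r) a ∈ subI 𝒜 chart i (hU.basicOpen r)) :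
    ∃ k : ℕ, (𝒜.str.app (op U)).hom r ^ k * a ∈ subI 𝒜 chart i hU := by
  classical
  obtain ⟨s, hs⟩ := exists_spans 𝒜 hU hFT
  let A := 𝒜.deg U hU
  let B := 𝒜.deg (S.basicOpen r) (hU.basicOpen r)
  let ρ := 𝒜.res hU (hU.basicOpen r) (S.basicOpen_le r)
  let c : A 0 := ⟨_, 𝒜.str_mem U hU r⟩
  letI := (𝒜.presheaf.map (homOfLE (S.basicOpen_le r)).op).hom.toAlgebra
  have hloc : IsLocalization.Away ((𝒜.str.app (op U)).hom r) (𝒜.presheaf.obj (op (S.basicOpen r))) :=
    𝒜.isQC U hU r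
  have hcpow : ∀ k, (c : 𝒜.presheaf.obj (op U)) ^ k ∈ A 0 := fun k => by
    have := SetLike.pow_mem_graded (A := A) k c.2
    rwa [smul_zero] at this
  have key : ∀ g : s, ∃ k : ℕ, fromZeroRingHom A (Submonoid.powers g.1) c ^ k * fracA A (hs.1 g.1 g.2) n a ha ∈
      chartJ 𝒜 chart i hU (hs.1 g.1 g.2) := by
    rintro ⟨g, hgs⟩
    have hg := hs.1 g hgs
    letI : Algebra (Away A g) (Away B (ρ g)) := (Away.map ρ g).toAlgebra
    have hL : IsLocalization (Submonoid.powers (fromZeroRingHom A (Submonoid.powers g) c)) (Away B (ρ g)) := by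
      have hunit : IsUnit (ρ (c : 𝒜.presheaf.obj (op U))) :=
        IsLocalization.Away.algebraMap_isUnit ((𝒜.str.app (op U)).hom r)
      have hunit0 : ∀ k, IsUnit (fracA B (ρ.map_mem hg) 0 (ρ ((c : 𝒜.presheaf.obj (op U)) ^ k))
          (ρ.map_mem (hcpow k))) := fun k => by
        obtain ⟨d, hd⟩ := (hunit.pow k).exists_right_inv
        rw [← map_pow] at hd
        have hd0 : ρ ((c : 𝒜.presheaf.obj (op U)) ^ k) * (DirectSum.decompose B d 0 : _) = 1 := by
          erw [← DirectSum.coe_decompose_mul_of_left_mem_zero B (ρ.map_mem (hcpow k)), hd,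
            DirectSum.decompose_of_mem_same B SetLike.GradedOne.one_mem]
        refine IsUnit.of_mul_eq_one (fracA B (ρ.map_mem hg) 0 (DirectSum.decompose B d 0 : _) (SetLike.coe_mem _)) ?_
        erw [← fracA_mul B _ 0 0 _ _ (ρ.map_mem (hcpow k)) (SetLike.coe_mem _)]
        apply HomogeneousLocalization.val_injective
        rw [fracA, Away.val_mk, HomogeneousLocalization.val_one]
        exact (congrArg₂ Localization.mk hd0 (Subtype.ext (by simp))).trans Localization.mk_one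
      have hc : ∀ k, fromZeroRingHom A (Submonoid.powers g) c ^ k = fracA A hg 0 ((c : 𝒜.presheaf.obj (op U)) ^ k) (hcpow k) := fun k => by
        rw [← map_pow, ← fracA_fromZero A hg]
        exact fracA_congr A hg _ _ rfl (by simp)
      refine (isLocalization_iff _ _).2 ⟨?_, ?_, ?_⟩
      · rintro ⟨_, k, rfl⟩
        show IsUnit (Away.map ρ g (fromZeroRingHom A _ c ^ k))
        rw [hc, Away.map_mk]
        exact hunit0 k
      · intro z
        obtain ⟨m, b, hb', rfl⟩ := z.mk_surjective B (ρ.map_mem hg)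
        have hbm : b ∈ B m := by simpa using hb'
        obtain ⟨⟨y, _, k, rfl⟩, hy⟩ := IsLocalization.surj (Submonoid.powers ((𝒜.str.app (op U)).hom r)) b
        change b * ρ ((c : 𝒜.presheaf.obj (op U)) ^ k) = ρ y at hy
        refine ⟨⟨fracA A hg m (DirectSum.decompose A y m : _) (SetLike.coe_mem _), ⟨_, k, rfl⟩⟩, ?_⟩
        show _ * Away.map ρ g (fromZeroRingHom A _ c ^ k) = Away.map ρ g _
        rw [hc, Away.map_mk, Away.map_mk]
        have hbk : b * ρ ((c : 𝒜.presheaf.obj (op U)) ^ k) ∈ B (m + 0) :=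
          SetLike.mul_mem_graded hbm (ρ.map_mem (hcpow k))
        refine (fracA_mul B (ρ.map_mem hg) m 0 b _ hbm (ρ.map_mem (hcpow k))).symm.trans ?_
        refine fracA_congr B (ρ.map_mem hg) hbk (ρ.map_mem (SetLike.coe_mem _)) (add_zero m) ?_
        rw [add_zero] at hbk
        erw [GradedRingHom.map_directSumDecompose, ← hy, DirectSum.decompose_of_mem_same B hbk]
      · intro x y hxy
        change Away.map ρ g x = Away.map ρ g y at hxy
        suffices ∀ z, Away.map ρ g z = 0 → ∃ k : ℕ, fromZeroRingHom A _ c ^ k * z = 0 by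
          obtain ⟨k, hk⟩ := this (x - y) (by rw [map_sub, hxy, sub_self])
          exact ⟨⟨_, k, rfl⟩, sub_eq_zero.1 (by rw [← mul_sub]; exact hk)⟩
        intro z hz
        obtain ⟨m, b, hb', rfl⟩ := z.mk_surjective A hg
        rw [Away.map_mk, ← (HomogeneousLocalization.val_injective _).eq_iff, Away.val_mk,
          HomogeneousLocalization.val_zero, Localization.mk_eq_mk', IsLocalization.mk'_eq_zero_iff] at hz
        obtain ⟨⟨_, l, rfl⟩, hl⟩ := hz
        change ρ g ^ l * ρ b = 0 at hl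
        rw [← map_pow, ← map_mul] at hl
        obtain ⟨⟨_, k, rfl⟩, hk⟩ :=
          (IsLocalization.map_eq_zero_iff (Submonoid.powers ((𝒜.str.app (op U)).hom r))
            (𝒜.presheaf.obj (op (S.basicOpen r))) _).1 hl
        change (c : 𝒜.presheaf.obj (op U)) ^ k * (g ^ l * b) = 0 at hk
        refine ⟨k, ?_⟩
        have hbm : b ∈ A m := by simpa using hb'
        rw [hc]
        refine (fracA_mul A hg 0 m _ b (hcpow k) hbm).symm.trans ?_
        have hgl : g ^ l * ((c : 𝒜.presheaf.obj (op U)) ^ k * b) ∈ A (l + (0 + m)) :=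
          SetLike.mul_mem_graded (by simpa using SetLike.pow_mem_graded (A := A) l hg)
            (SetLike.mul_mem_graded (hcpow k) hbm)
        rw [← fracA_pow_mul A hg l (0 + m) _ _ hgl,
          fracA_congr A hg hgl (zero_mem (A (l + (0 + m)))) rfl (by rw [← hk]; ring), fracA_zero]
    have h1 := (mem_subI_iff 𝒜 chart i _ (ρ.map_mem ha)).1 h (ρ g) (ρ.map_mem hg) (ρ.map_mem ha)
    rw [chartJ_res 𝒜 chart i hU (hU.basicOpen r) _ hP ⟨r, rfl⟩ hg] at h1
    have h2 : algebraMap (Away A g) (Away B (ρ g)) (fracA A hg n a ha) ∈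
        (chartJ 𝒜 chart i hU hg).map (algebraMap (Away A g) (Away B (ρ g))) := by
      rw [RingHom.algebraMap_toAlgebra, Away.map_mk]
      exact h1
    obtain ⟨_, ⟨k, rfl⟩, hk⟩ := (@IsLocalization.algebraMap_mem_map_algebraMap_iff
      _ _ (Submonoid.powers (fromZeroRingHom A (Submonoid.powers g) c)) _ _ _ hL _ _).mp h2
    exact ⟨k, hk⟩
  choose k hk using key
  let M := Finset.univ.sup k
  refine ⟨M, ?_⟩
  have hm : (c : 𝒜.presheaf.obj (op U)) ^ M * a ∈ A (0 + n) := SetLike.mul_mem_graded (hcpow M) ha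
  refine (mem_subI_iff 𝒜 chart i hU hm).2 (inI_of_spans 𝒜 chart i hU hs hm fun g hg => ?_)
  obtain ⟨l, hl⟩ := Nat.exists_eq_add_of_le (Finset.le_sup (f := k) (Finset.mem_univ (⟨g, hg⟩ : s)))
  have e : fracA A (hs.1 g hg) (0 + n) _ hm =
      fromZeroRingHom A (Submonoid.powers g) c ^ M * fracA A (hs.1 g hg) n a ha := by
    refine (fracA_congr A _ hm (SetLike.mul_mem_graded (c ^ M).2 ha) rfl (by simp)).trans ?_
    rw [fracA_mul A _ 0 n _ a (c ^ M).2 ha, fracA_fromZero, map_pow]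
  rw [e, show M = l + k ⟨g, hg⟩ from hl.trans (Nat.add_comm _ _), pow_add, mul_assoc]
  exact Ideal.mul_mem_left _ _ (hk ⟨g, hg⟩)

/-- The ideal restricts into the ideal on every affine open. -/
theorem res_mem_subI (hP : RelProj.IsRelProj 𝒜 p chart) (hFT : 𝒜.IsFTDeg 1) {n : ℕ}
    {a : 𝒜.presheaf.obj (op U)} (ha : a ∈ 𝒜.deg U hU n)
    (h : a ∈ subI 𝒜 chart i hU) : 𝒜.res hU hD le a ∈ subI 𝒜 chart i hD := by
  classical
  let b := 𝒜.res hU hD le a
  let K₀ : Ideal (𝒜.presheaf.obj (op D)) :=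
    Submodule.comap (LinearMap.mulRight (𝒜.presheaf.obj (op D)) b) (subI 𝒜 chart i hD)
  let K : Ideal Γ(S, D) := K₀.comap (𝒜.str.app (op D)).hom
  suffices h1 : (1 : Γ(S, D)) ∈ K by
    change (𝒜.str.app (op D)).hom 1 * b ∈ subI 𝒜 chart i hD at h1
    rwa [map_one, one_mul] at h1
  have h1 : (1 : Γ(S, D)) ∈ K.radical := by
    have hspan : Ideal.span {f : Γ(S, D) | ∃ g : Γ(S, U), S.basicOpen g = S.basicOpen f} = ⊤ := by
      rw [← IsAffineOpen.iSup_basicOpen_eq_self_iff hD]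
      refine le_antisymm (iSup_le fun f => S.basicOpen_le f.1) fun z hz => ?_
      obtain ⟨g, f, hgf, hz'⟩ := exists_basicOpen_le_affine_inter hU hD z ⟨le hz, hz⟩
      exact Opens.mem_iSup.2 ⟨⟨f, g, hgf⟩, hgf ▸ hz'⟩
    have hsub : Ideal.span {f : Γ(S, D) | ∃ g : Γ(S, U), S.basicOpen g = S.basicOpen f} ≤ K.radical := by
      rw [Ideal.span_le]
      rintro f ⟨g, hgf⟩
      have h2 := res_mem_subI_basic 𝒜 chart i hU (hD.basicOpen f) ((S.basicOpen_le f).trans le) hP hFT
        ⟨g, hgf⟩ ha h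
      have e : 𝒜.res hU (hD.basicOpen f) ((S.basicOpen_le f).trans le) a =
          𝒜.res hD (hD.basicOpen f) (S.basicOpen_le f) b := by
        simp only [b, RelProj.QCGrAlg.res_apply, ← RingHom.comp_apply, ← CommRingCat.hom_comp, ← Functor.map_comp]
        rfl
      rw [e] at h2
      obtain ⟨k, hk⟩ := exists_pow_str_mul_mem 𝒜 chart i hD hP hFT ((𝒜.res hU hD le).map_mem ha) h2
      refine ⟨k, ?_⟩
      show (𝒜.str.app (op D)).hom (f ^ k) * b ∈ subI 𝒜 chart i hD
      rwa [map_pow]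
    exact hsub (hspan ▸ Submodule.mem_top)
  rw [← Ideal.eq_top_iff_one, ← Ideal.radical_eq_top, Ideal.eq_top_iff_one]
  exact h1

end restriction

end Groth.Agent.Chow34
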