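import Groth.Agent.Chow34.Proj.Quot
import Groth.Agent.KRRLib.PnBC.Twist
import Mathlib.RingTheory.MvPolynomial.Localization

/-!
# Projective space over a base is projective
-/

set_option autoImplicit false
set_option backward.isDefEq.respectTransparency false
set_option backward.isDefEq.respectTransparency.types false
set_option linter.unusedVariables false
set_option linter.style.haveILetI false

universe u

open SetLike DirectSum AlgebraicGeometry HomogeneousLocalization CategoryTheory CategoryTheory.Limits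
open TopologicalSpace Opposite
open scoped HomogeneousIdeal
open Groth.Agent.KRRLib

noncomputable section

namespace Groth.Agent.Chow34

variable (n : ℕ)

/-- The grading of the polynomial ring by subgroups. -/
abbrev polyDeg (R : Type u) [CommRing R] (d : ℕ) : AddSubgroup (MvPolynomial (Fin (n + 1)) R) :=
  (CohB1.polyGrading n R d).toAddSubgroup

/-- The grading. -/
@[instance_reducible]
def polyGraded (R : Type u) [CommRing R] : GradedRing (polyDeg n R) :=
  { one_mem := SetLike.one_mem_graded (CohB1.polyGrading n R)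
    mul_mem := fun _ _ _ _ ha hb => SetLike.mul_mem_graded (A := CohB1.polyGrading n R) ha hb
    decompose' := fun a => DirectSum.decompose (CohB1.polyGrading n R) a
    left_inv := fun a => DirectSum.Decomposition.left_inv (ℳ := CohB1.polyGrading n R) a
    right_inv := fun z => DirectSum.Decomposition.right_inv (ℳ := CohB1.polyGrading n R) z }

variable (S : Scheme.{u})

/-- The polynomial algebra on affine opens. -/
def polyData : AffAlg S where
  B U hU := CommRingCat.of (MvPolynomial (Fin (n + 1)) Γ(S, U))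
  res {U V} hU hV le := CommRingCat.ofHom (MvPolynomial.map (S.presheaf.map (homOfLE le).op).hom)
  res_id {U} hU x := by
    show MvPolynomial.map (S.presheaf.map (homOfLE le_rfl).op).hom x = x
    rw [show (homOfLE (le_refl U)).op = 𝟙 (op U) from rfl, CategoryTheory.Functor.map_id]
    exact MvPolynomial.map_id x
  res_comp {U V W} hU hV hW le k x := by
    show MvPolynomial.map _ (MvPolynomial.map _ x) = MvPolynomial.map _ x
    rw [MvPolynomial.map_map, ← CommRingCat.hom_comp, ← Functor.map_comp]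
    rfl
  str U hU := CommRingCat.ofHom MvPolynomial.C
  str_res {U V} hU hV le r := MvPolynomial.map_C _ r
  deg U hU := polyDeg n Γ(S, U)
  graded U hU := polyGraded n Γ(S, U)
  res_mem {U V} hU hV le {d x} hx := MvPolynomial.IsHomogeneous.map hx _
  str_mem U hU r := MvPolynomial.isHomogeneous_C _ r
  isLoc U hU r := by
    letI := (S.presheaf.map (homOfLE (S.basicOpen_le r)).op).hom.toAlgebra
    have hloc : IsLocalization.Away r Γ(S, S.basicOpen r) := hU.isLocalization_basicOpen r
    have h := MvPolynomial.isLocalization (σ := Fin (n + 1)) (Submonoid.powers r) Γ(S, S.basicOpen r)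
    rw [Submonoid.map_powers] at h
    exact h

/-- The polynomial algebra. -/
abbrev polyAlg : RelProj.QCGrAlg S := (polyData n S).grAlg

variable {n S}

theorem e_inv (U : S.Opens) (hU : IsAffineOpen U) (x : (polyData n S).B U hU) :
    ((polyData n S).e U hU).hom (((polyData n S).e U hU).inv x) = x :=
  congr($(((polyData n S).e U hU).inv_hom_id).hom x)

/-- The comparison with the polynomial ring. -/
def fromPoly (U : S.Opens) (hU : IsAffineOpen U) :
    CohB1.polyGrading n Γ(S, U) →+*ᵍ (polyAlg n S).deg U hU :=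
  { ((polyData n S).e U hU).inv.hom with
    map_mem := fun {d x} hx => by
      show ((polyData n S).e U hU).hom (((polyData n S).e U hU).inv x) ∈ polyDeg n Γ(S, U) d
      rw [e_inv]; exact hx }

theorem bijective_fromPoly (U : S.Opens) (hU : IsAffineOpen U) :
    Function.Bijective (fromPoly (n := n) U hU) :=
  ConcreteCategory.bijective_of_isIso ((polyData n S).e U hU).inv

theorem fromPoly_bijOn (U : S.Opens) (hU : IsAffineOpen U) (d : ℕ) :
    Set.BijOn (fromPoly (n := n) U hU) (CohB1.polyGrading n Γ(S, U) d : Set _) ((polyAlg n S).deg U hU d : Set _) :=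
  ⟨fun x hx => (fromPoly U hU).map_mem hx, (bijective_fromPoly U hU).1.injOn, fun b hb =>
    ⟨((polyData n S).e U hU).hom b, hb, congr($(((polyData n S).e U hU).hom_inv_id).hom b)⟩⟩

theorem fromPoly_C (U : S.Opens) (hU : IsAffineOpen U) (r : Γ(S, U)) :
    fromPoly (n := n) U hU (MvPolynomial.C r) = ((polyAlg n S).str.app (op U)).hom r := by
  apply (ConcreteCategory.bijective_of_isIso ((polyData n S).e U hU).hom).1
  exact (e_inv U hU _).trans ((polyData n S).e_str U hU r).symm

theorem fromPoly_irrelevant (U : S.Opens) (hU : IsAffineOpen U) :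
    ((polyAlg n S).deg U hU)₊ ≤ ((CohB1.polyGrading n Γ(S, U))₊).map (fromPoly U hU) := by
  rw [HomogeneousIdeal.irrelevant_le]
  intro d hd b hb
  obtain ⟨a, ha, rfl⟩ := (fromPoly_bijOn U hU d).surjOn hb
  exact Ideal.mem_map_of_mem _ (HomogeneousIdeal.mem_irrelevant_of_mem _ hd ha)

theorem fromPoly_res {U V : S.Opens} (hU : IsAffineOpen U) (hV : IsAffineOpen V) (le : V ≤ U)
    (x : MvPolynomial (Fin (n + 1)) Γ(S, U)) :
    (polyAlg n S).res hU hV le (fromPoly U hU x) =
      fromPoly V hV (MvPolynomial.map (S.presheaf.map (homOfLE le).op).hom x) := by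
  apply (ConcreteCategory.bijective_of_isIso ((polyData n S).e V hV).hom).1
  refine ((polyData n S).e_res hU hV le _).trans ?_
  erw [e_inv, e_inv]
  rfl

theorem isGenDegOne_polyAlg : (polyAlg n S).IsGenDegOne := by
  intro U hU
  rw [eq_top_iff]
  rintro b -
  obtain ⟨x, rfl⟩ := (bijective_fromPoly U hU).2 b
  induction x using MvPolynomial.induction_on with
  | C r => exact Subring.subset_closure (Or.inl ((fromPoly U hU).map_mem (MvPolynomial.isHomogeneous_C _ r)))
  | add p q hp hq => rw [map_add]; exact add_mem hp hq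
  | mul_X p l hp =>
    rw [map_mul]
    exact mul_mem hp (Subring.subset_closure (Or.inr ((fromPoly U hU).map_mem (MvPolynomial.isHomogeneous_X _ l))))

theorem isFTDeg_polyAlg : (polyAlg n S).IsFTDeg 1 := by
  classical
  intro U hU
  refine ⟨Finset.univ.image fun l => fromPoly U hU (MvPolynomial.X l), ?_, fun b hb => ?_⟩
  · intro y hy
    obtain ⟨l, -, rfl⟩ := Finset.mem_image.1 hy
    exact (fromPoly U hU).map_mem (MvPolynomial.isHomogeneous_X _ l)
  obtain ⟨a, ha, rfl⟩ := (fromPoly_bijOn U hU 1).surjOn hb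
  change a ∈ MvPolynomial.homogeneousSubmodule (Fin (n + 1)) Γ(S, U) 1 at ha
  rw [MvPolynomial.homogeneousSubmodule_one_eq_span_X, Submodule.mem_span_range_iff_exists_fun] at ha
  obtain ⟨c, rfl⟩ := ha
  refine ⟨fun y => ∑ l ∈ Finset.univ.filter (fun l => fromPoly U hU (MvPolynomial.X l) = y), c l, ?_⟩
  rw [map_sum]
  refine (Finset.sum_image' (fun l => fromPoly U hU (c l • MvPolynomial.X l)) fun l hl => ?_).symm
  rw [map_sum, Finset.sum_mul]
  exact Finset.sum_congr rfl fun l' hl' => by
    rw [MvPolynomial.smul_eq_C_mul, map_mul, fromPoly_C, (Finset.mem_filter.1 hl').2]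

set_option maxHeartbeats 1000000 in
/-- `P^n_S` is projective over `S`. -/
theorem isProjective_projSpaceOver (n : ℕ) (S : Scheme.{u}) :
    RelProj.IsProjective (CohB1.ProjSpaceOver.toBase n S) := by
  obtain ⟨P, p, chart, hP⟩ := Proj16.exists_isRelProj (polyAlg n S)
  let z : ∀ U : S.Opens, (ULift.{u} ℤ) →+* Γ(S, U) := fun U => SegreX.z0 _
  let ψ : ∀ (U : S.Opens) (hU : IsAffineOpen U), CohB1.polyGrading n (ULift.{u} ℤ) →+*ᵍ (polyAlg n S).deg U hU :=
    fun U hU => (fromPoly U hU).comp (PnBC.polyMap n (z U))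
  have hψ : ∀ (U : S.Opens) (hU : IsAffineOpen U),
      ((polyAlg n S).deg U hU)₊ ≤ ((CohB1.polyGrading n (ULift.{u} ℤ))₊).map (ψ U hU) := fun U hU => by
    refine (fromPoly_irrelevant U hU).trans ?_
    have h := Ideal.map_mono (f := (fromPoly (n := n) U hU).toRingHom)
      (toIdeal_le_toIdeal_iff.mpr (PnBC.irrelevant_le (n := n) (z U)))
    refine toIdeal_le_toIdeal_iff.mp (le_trans h ?_)
    exact le_of_eq (Ideal.map_map _ _)
  let gU : ∀ (U : S.Opens) (hU : IsAffineOpen U), (p ⁻¹ᵁ U).toScheme ⟶ CohB1.ProjSpace n (ULift.{u} ℤ) :=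
    fun U hU => (chart U hU).hom ≫ Proj.map (ψ U hU) (hψ U hU)
  obtain ⟨t, ht, -⟩ := Proj16.existsUnique_glue (p := p) gU fun U hU r => by
    simp only [gU]
    rw [reassoc_of% (hP.chart_res U hU r), ← Proj.map_comp]
    refine congrArg _ (Proj16.proj_map_congr ?_ _ _)
    ext x
    show (polyAlg n S).res hU (hU.basicOpen r) (S.basicOpen_le r) (fromPoly U hU (PnBC.polyMap n (z U) x)) =
      fromPoly (S.basicOpen r) (hU.basicOpen r) (PnBC.polyMap n (z _) x)
    rw [fromPoly_res]
    refine congrArg _ ?_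
    show MvPolynomial.map _ (MvPolynomial.map (z U) x) = MvPolynomial.map (z _) x
    rw [MvPolynomial.map_map, SegreX.z0_eq (RingHom.comp _ (z U))]
  let g : P ⟶ CohB1.ProjSpaceOver n S := pullback.lift t p (specULiftZIsTerminal.hom_ext _ _)
  have hg : g ≫ CohB1.ProjSpaceOver.toBase n S = p := pullback.lift_snd _ _ _
  suffices IsIso g by
    refine ⟨polyAlg n S, P, p, chart, (asIso g).symm, isGenDegOne_polyAlg, isFTDeg_polyAlg, hP, ?_⟩
    show inv g ≫ p = _
    rw [IsIso.inv_comp_eq, hg]
  refine IsZariskiLocalAtTarget.of_iSup_eq_top (P := MorphismProperty.isomorphisms Scheme.{u})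
    (fun U : S.affineOpens => CohB1.ProjSpaceOver.toBase n S ⁻¹ᵁ U.1)
    (by rw [← Scheme.Hom.preimage_iSup, iSup_affineOpens_eq_top, Scheme.Hom.preimage_top]) fun U => ?_
  obtain ⟨U, hU⟩ := U
  let q := CohB1.ProjSpaceOver.toBase n S
  have sq1 : IsPullback ((q ⁻¹ᵁ U).ι ≫ pullback.fst _ _) (q ∣_ U)
      (CohB1.ProjSpace.toSpec n (ULift.{u} ℤ)) (specULiftZIsTerminal.from U.toScheme) := by
    have := (isPullback_morphismRestrict q U).flip.paste_horiz
      (IsPullback.of_hasPullback (CohB1.ProjSpace.toSpec n (ULift.{u} ℤ)) (specULiftZIsTerminal.from S))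
    rwa [specULiftZIsTerminal.hom_ext (U.ι ≫ specULiftZIsTerminal.from S) (specULiftZIsTerminal.from U.toScheme)] at this
  let α := Proj.map (fromPoly (n := n) U hU) (fromPoly_irrelevant U hU)
  haveI : IsIso α := Proj16.isIso_map_of_bijOn _ _ fun d _ => fromPoly_bijOn U hU d
  have hα : α ≫ CohB1.ProjSpace.toSpec n Γ(S, U) =
      Proj.toSpecZero ((polyAlg n S).deg U hU) ≫ Spec.map ((polyAlg n S).strZero U hU) := by
    refine (Proj.mapAffineOpenCover _ (fromPoly_irrelevant (n := n) U hU)).openCover.hom_ext _ _ ?_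
    suffices h : ∀ (d : ℕ) (hd : 0 < d) (a : MvPolynomial (Fin (n + 1)) Γ(S, U)) (ha : a ∈ CohB1.polyGrading n Γ(S, U) d),
        Proj.awayι ((polyAlg n S).deg U hU) (fromPoly U hU a) ((fromPoly U hU).map_mem ha) hd ≫
          α ≫ CohB1.ProjSpace.toSpec n Γ(S, U) =
        Proj.awayι ((polyAlg n S).deg U hU) (fromPoly U hU a) ((fromPoly U hU).map_mem ha) hd ≫
          Proj.toSpecZero ((polyAlg n S).deg U hU) ≫ Spec.map ((polyAlg n S).strZero U hU) from
      fun s ↦ h s.1 s.1.2 s.2 s.2.2
    intro d hd a ha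
    rw [Proj.awayι_comp_map_assoc _ _ hd a ha, CohB1.ProjSpace.toSpec, Proj.awayι_toSpecZero_assoc,
      Proj.awayι_toSpecZero_assoc]
    simp only [← Spec.map_comp]
    congr 1
    ext r
    simp only [CommRingCat.hom_comp, CommRingCat.hom_ofHom, RingHom.comp_apply,
      HomogeneousLocalization.Away.map, HomogeneousLocalization.fromZeroRingHom, RingHom.coe_mk,
      MonoidHom.coe_mk, OneHom.coe_mk, HomogeneousLocalization.map_mk, HomogeneousLocalization.val_mk]
    exact congr_arg₂ Localization.mk (fromPoly_C U hU r) (Subtype.ext (map_one _))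
  have sq2 : IsPullback ((p ⁻¹ᵁ U).ι ≫ t) (p ∣_ U)
      (CohB1.ProjSpace.toSpec n (ULift.{u} ℤ)) (specULiftZIsTerminal.from U.toScheme) := by
    haveI : IsIso ((chart U hU).hom ≫ α) := inferInstance
    refine (PnBC.isPullback_affine n Γ(S, U)).of_iso (asIso ((chart U hU).hom ≫ α)).symm (Iso.refl _)
      hU.isoSpec.symm (Iso.refl _) ?_ ?_ (by simp) (specULiftZIsTerminal.hom_ext _ _)
    · rw [Iso.refl_hom, Category.comp_id, ← cancel_epi (asIso ((chart U hU).hom ≫ α)).hom, Iso.symm_hom,
        Iso.hom_inv_id_assoc, ht U hU, asIso_hom, Category.assoc]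
      show (chart U hU).hom ≫ α ≫ PnBC.bcHom n (SegreX.z0 Γ(S, U)) = (chart U hU).hom ≫ Proj.map (ψ U hU) (hψ U hU)
      rw [PnBC.bcHom, ← Proj.map_comp]
    · rw [← cancel_epi (asIso ((chart U hU).hom ≫ α)).hom, Iso.symm_hom, Iso.symm_hom, Iso.hom_inv_id_assoc,
        asIso_hom, Category.assoc, Proj16.morphismRestrict_eq hP U hU, reassoc_of% hα]
  have heq : g ⁻¹ᵁ (q ⁻¹ᵁ U) = p ⁻¹ᵁ U := by rw [← Scheme.Hom.comp_preimage, hg]
  have : g ∣_ (q ⁻¹ᵁ U) = (P.isoOfEq heq).hom ≫ (sq2.isoIsPullback _ _ sq1).hom := by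
    refine sq1.hom_ext ?_ ?_
    · rw [Category.assoc, IsPullback.isoIsPullback_hom_fst, morphismRestrict_ι_assoc, pullback.lift_fst,
        Scheme.isoOfEq_hom_ι_assoc]
    · rw [Category.assoc, IsPullback.isoIsPullback_hom_snd, ← cancel_mono U.ι, Category.assoc, Category.assoc,
        morphismRestrict_ι, morphismRestrict_ι_assoc, hg, morphismRestrict_ι, Scheme.isoOfEq_hom_ι_assoc]
  show IsIso (g ∣_ (q ⁻¹ᵁ U))
  rw [this]
  infer_instance

/-- H-projective morphisms are projective. -/
theorem isProjective_of_isHProjective {X S : Scheme.{u}} (f : X ⟶ S) (hf : RelProj.IsHProjective f) :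
    RelProj.IsProjective f := by
  obtain ⟨m, j, hj, rfl⟩ := hf
  exact isProjective_comp_closedImmersion _ (isProjective_projSpaceOver m S) j

end Groth.Agent.Chow34
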