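import Groth.Agent.Chow34.Proj.Alg
import Groth.Agent.Chow34.Proj.Ideal
import Groth.Agent.Eg2Bundle.GlueProj
import Groth.Agent.Proj16.RelMap
import Groth.Agent.RelTildeX.Props

/-!
# A closed subscheme of a relative `Proj` generated in degree one is projective
-/

set_option autoImplicit false
set_option backward.isDefEq.respectTransparency false
set_option backward.isDefEq.respectTransparency.types false
set_option linter.unusedVariables false
set_option linter.style.haveILetI false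

universe u

open SetLike DirectSum AlgebraicGeometry HomogeneousLocalization CategoryTheory CategoryTheory.Limits
open TopologicalSpace Opposite
open scoped HomogeneousIdeal

noncomputable section

namespace Groth.Agent.Chow34

section map

variable {Y PA PB : Scheme.{u}} {𝒜 ℬ : RelProj.QCGrAlg Y} {pA : PA ⟶ Y} {pB : PB ⟶ Y}
  {chartA : ∀ (U : Y.Opens) (hU : IsAffineOpen U), (((pA ⁻¹ᵁ U : PA.Opens) : Scheme.{u}) ≅ Proj (𝒜.deg U hU))}
  {chartB : ∀ (U : Y.Opens) (hU : IsAffineOpen U), (((pB ⁻¹ᵁ U : PB.Opens) : Scheme.{u}) ≅ Proj (ℬ.deg U hU))}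

/-- Chartwise graded homomorphisms compatible with restriction glue to a morphism of relative `Proj`s. -/
theorem exists_projMap (hA : RelProj.IsRelProj 𝒜 pA chartA) (hB : RelProj.IsRelProj ℬ pB chartB)
    (φ : ∀ (U : Y.Opens) (hU : IsAffineOpen U), 𝒜.deg U hU →+*ᵍ ℬ.deg U hU)
    (hirr : ∀ (U : Y.Opens) (hU : IsAffineOpen U), (ℬ.deg U hU)₊ ≤ ((𝒜.deg U hU)₊).map (φ U hU))
    (hstr : ∀ (U : Y.Opens) (hU : IsAffineOpen U) (r : Γ(Y, U)),
      φ U hU ((𝒜.str.app (op U)).hom r) = (ℬ.str.app (op U)).hom r)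
    (hnat : ∀ (U : Y.Opens) (hU : IsAffineOpen U) (r : Γ(Y, U)) (x : 𝒜.presheaf.obj (op U)),
      ℬ.res hU (hU.basicOpen r) (Y.basicOpen_le r) (φ U hU x) =
        φ _ (hU.basicOpen r) (𝒜.res hU (hU.basicOpen r) (Y.basicOpen_le r) x)) :
    ∃ h : PB ⟶ PA, h ≫ pA = pB ∧
      (∀ (U : Y.Opens) (hU : IsAffineOpen U),
        RelProj.emb pB chartB U hU ≫ h = Proj.map (φ U hU) (hirr U hU) ≫ RelProj.emb pA chartA U hU) ∧
      ∀ (Pr : MorphismProperty Scheme.{u}) [IsZariskiLocalAtTarget Pr],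
        (∀ (U : Y.Opens) (hU : IsAffineOpen U), Pr (Proj.map (φ U hU) (hirr U hU))) → Pr h := by
  have hex : ∃! h : PB ⟶ PA, ∀ (U : Y.Opens) (hU : IsAffineOpen U), (pB ⁻¹ᵁ U).ι ≫ h =
      (chartB U hU).hom ≫ Proj.map (φ U hU) (hirr U hU) ≫ (chartA U hU).inv ≫ (pA ⁻¹ᵁ U).ι := by
    refine Proj16.existsUnique_glue _ fun U hU r ↦ ?_
    have hle := Y.basicOpen_le r
    have h1 : Proj.map (ℬ.res hU (hU.basicOpen r) hle) (ℬ.irrelevant_le_map U hU r) ≫
        Proj.map (φ U hU) (hirr U hU) =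
        Proj.map (φ _ (hU.basicOpen r)) (hirr _ _) ≫
          Proj.map (𝒜.res hU (hU.basicOpen r) hle) (𝒜.irrelevant_le_map U hU r) := by
      rw [← Proj.map_comp, ← Proj.map_comp]
      exact Proj16.proj_map_congr (by ext x; exact hnat U hU r x) _ _
    have h2 : Proj.map (𝒜.res hU (hU.basicOpen r) hle) (𝒜.irrelevant_le_map U hU r) ≫
        (chartA U hU).inv =
        (chartA _ (hU.basicOpen r)).inv ≫ PA.homOfLE (pA.preimage_mono hle) := by
      rw [Iso.comp_inv_eq, Category.assoc, hA.chart_res U hU r, Iso.inv_hom_id_assoc]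
    rw [reassoc_of% (hB.chart_res U hU r), reassoc_of% h1, reassoc_of% h2, Scheme.homOfLE_ι]
  obtain ⟨h, hh, -⟩ := hex
  have hcomp : h ≫ pA = pB := Proj16.hom_ext_affine (p := pB) fun U hU ↦ by
    rw [reassoc_of% (hh U hU)]
    have := Eg2Bundle.map_emb_proj hB hA hU (φ U hU) (hirr U hU) (hstr U hU)
    simp only [RelProj.emb, Category.assoc] at this
    rw [this, Iso.hom_inv_id_assoc]
  refine ⟨h, hcomp, fun U hU => ?_, fun Pr _ hPr => ?_⟩
  · simp only [RelProj.emb, Category.assoc, hh U hU, Iso.inv_hom_id_assoc]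
  refine IsZariskiLocalAtTarget.of_iSup_eq_top (fun U : Y.affineOpens ↦ pA ⁻¹ᵁ U.1)
    (by rw [← pA.preimage_iSup, iSup_affineOpens_eq_top, pA.preimage_top]) fun U ↦ ?_
  have heq : h ⁻¹ᵁ (pA ⁻¹ᵁ U.1) = pB ⁻¹ᵁ U.1 := by rw [← Scheme.Hom.comp_preimage, hcomp]
  have : h ∣_ (pA ⁻¹ᵁ U.1) = (PB.isoOfEq heq).hom ≫ (chartB U.1 U.2).hom ≫
      Proj.map (φ U.1 U.2) (hirr U.1 U.2) ≫ (chartA U.1 U.2).inv := by
    rw [← cancel_mono (pA ⁻¹ᵁ U.1).ι, morphismRestrict_ι]
    simp only [Category.assoc]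
    rw [← hh U.1 U.2, Scheme.isoOfEq_hom_ι_assoc]
  rw [this, MorphismProperty.cancel_left_of_respectsIso Pr,
    MorphismProperty.cancel_left_of_respectsIso Pr, MorphismProperty.cancel_right_of_respectsIso Pr]
  exact hPr U.1 U.2

end map

variable {S P Z : Scheme.{u}} (𝒜 : RelProj.QCGrAlg S) {p : P ⟶ S}
  {chart : ∀ (U : S.Opens) (hU : IsAffineOpen U), (((p ⁻¹ᵁ U : P.Opens) : Scheme.{u}) ≅ Proj (𝒜.deg U hU))}
  (hP : RelProj.IsRelProj 𝒜 p chart) (hFT : 𝒜.IsFTDeg 1) (i : Z ⟶ P)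

include hP hFT in
theorem subI_le_comap {U V : S.Opens} (hU : IsAffineOpen U) (hV : IsAffineOpen V) (le : V ≤ U) :
    subI 𝒜 chart i hU ≤ (subI 𝒜 chart i hV).comap (𝒜.res hU hV le).toRingHom := by
  classical
  intro x hx
  show 𝒜.res hU hV le x ∈ subI 𝒜 chart i hV
  rw [← DirectSum.sum_support_decompose (𝒜.deg U hU) x, map_sum]
  exact Ideal.sum_mem _ fun n _ => res_mem_subI 𝒜 chart i hU hV le hP hFT (SetLike.coe_mem _)
    (decompose_mem_subI 𝒜 chart i hU n x hx)

/-- The quotient algebra on affine opens. -/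
def quotData : AffAlg S where
  B U hU := CommRingCat.of (𝒜.presheaf.obj (op U) ⧸ subI 𝒜 chart i hU)
  res {U V} hU hV le :=
    CommRingCat.ofHom (Ideal.quotientMap _ (𝒜.res hU hV le).toRingHom (subI_le_comap 𝒜 hP hFT i hU hV le))
  res_id {U} hU x := by
    obtain ⟨a, rfl⟩ := Ideal.Quotient.mk_surjective x
    show Ideal.Quotient.mk _ ((𝒜.presheaf.map (homOfLE le_rfl).op).hom a) = _
    rw [show (homOfLE (le_refl U)).op = 𝟙 (op U) from rfl, CategoryTheory.Functor.map_id]
    rfl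
  res_comp {U V W} hU hV hW le k x := by
    obtain ⟨a, rfl⟩ := Ideal.Quotient.mk_surjective x
    refine congrArg (Ideal.Quotient.mk _) ?_
    show (𝒜.presheaf.map (homOfLE k).op).hom ((𝒜.presheaf.map (homOfLE le).op).hom a) = _
    rw [← RingHom.comp_apply, ← CommRingCat.hom_comp, ← Functor.map_comp]
    rfl
  str U hU := CommRingCat.ofHom ((Ideal.Quotient.mk _).comp (𝒜.str.app (op U)).hom)
  str_res {U V} hU hV le r :=
    congrArg (Ideal.Quotient.mk _) (congr($(𝒜.str.naturality (homOfLE le).op).hom r)).symm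
  deg U hU := quotGr (𝒜.deg U hU) _
  graded U hU := quotGradedRing (𝒜.deg U hU) _ fun n a ha => decompose_mem_subI 𝒜 chart i hU n a ha
  res_mem {U V} hU hV le {d x} hx := by
    obtain ⟨a, ha, rfl⟩ := hx
    exact mk_mem_quotGr _ _ ((𝒜.res hU hV le).map_mem ha)
  str_mem U hU r := mk_mem_quotGr _ _ (𝒜.str_mem U hU r)
  isLoc U hU r := by
    classical
    let ρ := 𝒜.res hU (hU.basicOpen r) (S.basicOpen_le r)
    let φ := Ideal.quotientMap (subI 𝒜 chart i (hU.basicOpen r)) ρ.toRingHom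
      (subI_le_comap 𝒜 hP hFT i hU (hU.basicOpen r) (S.basicOpen_le r))
    letI := (𝒜.presheaf.map (homOfLE (S.basicOpen_le r)).op).hom.toAlgebra
    have hloc : IsLocalization.Away ((𝒜.str.app (op U)).hom r) (𝒜.presheaf.obj (op (S.basicOpen r))) :=
      𝒜.isQC U hU r
    let c := (𝒜.str.app (op U)).hom r
    letI : Algebra (𝒜.presheaf.obj (op U) ⧸ subI 𝒜 chart i hU)
        (𝒜.presheaf.obj (op (S.basicOpen r)) ⧸ subI 𝒜 chart i (hU.basicOpen r)) := φ.toAlgebra
    show IsLocalization (Submonoid.powers (Ideal.Quotient.mk (subI 𝒜 chart i hU) c))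
      (𝒜.presheaf.obj (op (S.basicOpen r)) ⧸ subI 𝒜 chart i (hU.basicOpen r))
    refine (isLocalization_iff _ _).2 ⟨?_, ?_, ?_⟩
    · rintro ⟨_, k, rfl⟩
      show IsUnit (φ (Ideal.Quotient.mk _ c ^ k))
      rw [← map_pow, Ideal.quotientMap_mk]
      exact (IsLocalization.map_units (𝒜.presheaf.obj (op (S.basicOpen r)))
        (⟨c ^ k, k, rfl⟩ : Submonoid.powers c)).map _
    · intro z
      obtain ⟨b, rfl⟩ := Ideal.Quotient.mk_surjective z
      obtain ⟨⟨y, _, k, rfl⟩, hy⟩ := IsLocalization.surj (Submonoid.powers c) b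
      change b * ρ (c ^ k) = ρ y at hy
      refine ⟨⟨Ideal.Quotient.mk _ y, ⟨_, k, rfl⟩⟩, ?_⟩
      show _ * φ (Ideal.Quotient.mk _ c ^ k) = φ _
      rw [← map_pow, Ideal.quotientMap_mk, Ideal.quotientMap_mk, ← map_mul]
      exact congrArg _ hy
    · intro x y hxy
      change φ x = φ y at hxy
      obtain ⟨x, rfl⟩ := Ideal.Quotient.mk_surjective x
      obtain ⟨y, rfl⟩ := Ideal.Quotient.mk_surjective y
      rw [← sub_eq_zero, ← map_sub, ← map_sub, Ideal.quotientMap_mk, Ideal.Quotient.eq_zero_iff_mem] at hxy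
      have hk : ∀ n, ∃ k, c ^ k * (DirectSum.decompose (𝒜.deg U hU) (x - y) n : _) ∈ subI 𝒜 chart i hU :=
        fun n => exists_pow_str_mul_mem 𝒜 chart i hU hP hFT (SetLike.coe_mem _) (by
          have h := decompose_mem_subI 𝒜 chart i (hU.basicOpen r) n _ hxy
          erw [GradedRingHom.map_directSumDecompose]
          exact h)
      choose k hk using hk
      let M := (DirectSum.decompose (𝒜.deg U hU) (x - y)).support.sup k
      refine ⟨⟨_, M, rfl⟩, ?_⟩
      show Ideal.Quotient.mk _ c ^ M * _ = Ideal.Quotient.mk _ c ^ M * _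
      rw [← map_pow, ← map_mul, ← map_mul, Ideal.Quotient.eq, ← mul_sub,
        ← DirectSum.sum_support_decompose (𝒜.deg U hU) (x - y), Finset.mul_sum]
      refine Ideal.sum_mem _ fun n hn => ?_
      obtain ⟨l, hl⟩ := Nat.exists_eq_add_of_le (Finset.le_sup (f := k) hn)
      rw [show M = l + k n from hl.trans (Nat.add_comm _ _), pow_add, mul_assoc]
      exact Ideal.mul_mem_left _ _ (hk n)

include hP hFT in
/-- A closed subscheme of a relative `Proj` generated by a degree-one part of finite type is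
projective over the base. -/
theorem isProjective_of_closedImmersion_relProj [IsClosedImmersion i] (hgen : 𝒜.IsGenDegOne) :
    RelProj.IsProjective (i ≫ p) := by
  classical
  let D := quotData 𝒜 hP hFT i
  let ℬ := D.grAlg
  obtain ⟨PB, pB, chartB, hB⟩ := Proj16.exists_isRelProj ℬ
  have hinv : ∀ (U : S.Opens) (hU : IsAffineOpen U) (x : D.B U hU), (D.e U hU).hom ((D.e U hU).inv x) = x :=
    fun U hU x => congr($((D.e U hU).inv_hom_id).hom x)
  have hmem : ∀ (U : S.Opens) (hU : IsAffineOpen U) {d : ℕ} {x : D.B U hU},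
      x ∈ D.deg U hU d → (D.e U hU).inv x ∈ ℬ.deg U hU d := fun U hU {d x} hx => by
    show (D.e U hU).hom _ ∈ D.deg U hU d
    rw [hinv]; exact hx
  let φ : ∀ (U : S.Opens) (hU : IsAffineOpen U), 𝒜.deg U hU →+*ᵍ ℬ.deg U hU := fun U hU =>
    { (D.e U hU).inv.hom.comp (Ideal.Quotient.mk (subI 𝒜 chart i hU)) with
      map_mem := fun hx => hmem U hU (mk_mem_quotGr _ _ hx) }
  have hφ : ∀ (U : S.Opens) (hU : IsAffineOpen U) (x : 𝒜.presheaf.obj (op U)),
      φ U hU x = (D.e U hU).inv (Ideal.Quotient.mk _ x) := fun _ _ _ => rfl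
  have hsurj : ∀ (U : S.Opens) (hU : IsAffineOpen U), Function.Surjective (φ U hU) := fun U hU x => by
    obtain ⟨a, ha⟩ := Ideal.Quotient.mk_surjective ((D.e U hU).hom x)
    refine ⟨a, ?_⟩
    rw [hφ, ha]
    exact congr($((D.e U hU).hom_inv_id).hom x)
  have hker : ∀ (U : S.Opens) (hU : IsAffineOpen U) (x : 𝒜.presheaf.obj (op U)),
      φ U hU x = 0 ↔ x ∈ subI 𝒜 chart i hU := fun U hU x => by
    rw [hφ, ← Ideal.Quotient.eq_zero_iff_mem]
    exact map_eq_zero_iff _ (ConcreteCategory.bijective_of_isIso (D.e U hU).inv).1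
  have hirr : ∀ (U : S.Opens) (hU : IsAffineOpen U), (ℬ.deg U hU)₊ ≤ ((𝒜.deg U hU)₊).map (φ U hU) :=
    fun U hU => by
      rw [HomogeneousIdeal.irrelevant_le]
      intro n hn b hb
      obtain ⟨a, ha, rfl⟩ := Proj16.exists_mem_of_surjective (φ U hU) (hsurj U hU) hb
      exact Ideal.mem_map_of_mem _ (HomogeneousIdeal.mem_irrelevant_of_mem _ hn ha)
  have hstr : ∀ (U : S.Opens) (hU : IsAffineOpen U) (r : Γ(S, U)),
      φ U hU ((𝒜.str.app (op U)).hom r) = (ℬ.str.app (op U)).hom r := fun U hU r => by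
    apply (ConcreteCategory.bijective_of_isIso (D.e U hU).hom).1
    rw [hφ, hinv]
    exact (D.e_str U hU r).symm
  obtain ⟨h, hcomp, hemb, hloc⟩ := exists_projMap hP hB φ hirr hstr (fun U hU r x => by
    apply (ConcreteCategory.bijective_of_isIso (D.e _ (hU.basicOpen r)).hom).1
    refine (D.e_res hU (hU.basicOpen r) (S.basicOpen_le r) (φ U hU x)).trans ?_
    rw [hφ, hφ, hinv, hinv]
    rfl)
  haveI : IsClosedImmersion h := hloc @IsClosedImmersion fun U hU =>
    Proj16.isClosedImmersion_map _ _ (hsurj U hU)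
  have hk : h.ker = i.ker := by
    choose s hs using fun (U : S.affineOpens) => exists_spans 𝒜 U.2 hFT
    let ι := Σ U : S.affineOpens, (s U : Finset _)
    let j : ∀ k : ι, Spec (.of (Away (𝒜.deg k.1.1 k.1.2) k.2.1)) ⟶ P := fun k =>
      Proj.awayι _ k.2.1 ((hs k.1).1 _ k.2.2) one_pos ≫ RelProj.emb p chart k.1.1 k.1.2
    have hcomap : ∀ k : ι, h.ker.comap (j k) = i.ker.comap (j k) := by
      rintro ⟨⟨U, hU⟩, ⟨f, hf'⟩⟩
      have hf := (hs ⟨U, hU⟩).1 f hf'
      have sq1 : IsPullback (Spec.map (CommRingCat.ofHom (Away.map (φ U hU) f)))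
          (Proj.awayι _ (φ U hU f) ((φ U hU).2 hf) one_pos) (Proj.awayι _ f hf one_pos)
          (Proj.map (φ U hU) (hirr U hU)) := by
        refine IsOpenImmersion.isPullback _ _ _ _ (Proj.awayι_comp_map (φ U hU) (hirr U hU) one_pos _ hf) ?_
        rw [Proj.opensRange_awayι, Proj.opensRange_awayι, Proj.map_preimage_basicOpen]
      have sq2 : IsPullback (Proj.map (φ U hU) (hirr U hU)) (RelProj.emb pB chartB U hU)
          (RelProj.emb p chart U hU) h := by
        refine IsOpenImmersion.isPullback _ _ _ _ (hemb U hU) ?_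
        rw [RelTildeX.opensRange_emb, RelTildeX.opensRange_emb, ← hcomp]
        rfl
      refine Proj16.comap_eq_of_chartIdeal _ ?_
      rw [Proj16.chartIdeal_eq_ker _ _ (sq1.paste_vert sq2)]
      show RingHom.ker (Away.map (φ U hU) f) = chartJ 𝒜 chart i hU hf
      ext x
      obtain ⟨n, a, ha, rfl⟩ := x.mk_surjective (𝒜.deg U hU) hf
      have ha' : a ∈ 𝒜.deg U hU n := by simpa using ha
      rw [RingHom.mem_ker, Away.map_mk, ← (HomogeneousLocalization.val_injective _).eq_iff,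
        Away.val_mk, HomogeneousLocalization.val_zero, Localization.mk_eq_mk', IsLocalization.mk'_eq_zero_iff]
      constructor
      · rintro ⟨⟨_, m, rfl⟩, hm⟩
        change φ U hU f ^ m * φ U hU a = 0 at hm
        rw [← map_pow, ← map_mul, hker] at hm
        have hmem : f ^ m * a ∈ 𝒜.deg U hU (m + n) :=
          SetLike.mul_mem_graded (by simpa using SetLike.pow_mem_graded m hf) ha'
        have h2 := (mem_subI_iff 𝒜 chart i hU hmem).1 hm f hf hmem
        rwa [fracA_pow_mul _ hf m n a ha' hmem] at h2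
      · intro hK
        obtain ⟨k, hk⟩ := exists_pow_mul_mem_subI 𝒜 chart i hU (hs ⟨U, hU⟩) hf ha' hK
        refine ⟨⟨φ U hU f ^ k, k, rfl⟩, ?_⟩
        show φ U hU f ^ k * φ U hU a = 0
        rw [← map_pow, ← map_mul, hker]
        exact hk
    have hcov : ∀ y : P, ∃ (k : ι) (z : Spec (.of (Away (𝒜.deg k.1.1 k.1.2) k.2.1))), j k z = y := fun y => by
      obtain ⟨_, ⟨U, hU, rfl⟩, hyU, -⟩ := S.isBasis_affineOpens.exists_subset_of_mem_open
        (Set.mem_univ (p y)) isOpen_univ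
      obtain ⟨z, rfl⟩ := EgaQ.mem_range_emb (chart := chart) U hU y hyU
      obtain ⟨g, hg⟩ : ∃ g : (s ⟨U, hU⟩ : Finset _), g.1 ∉ z.asHomogeneousIdeal := by
        by_contra hcon
        push Not at hcon
        refine z.not_irrelevant_le ?_
        show ((𝒜.deg U hU)₊).toIdeal ≤ z.asHomogeneousIdeal.toIdeal
        rw [RelTildeX.irrelevant_eq_span_deg_one hgen U hU, Ideal.span_le]
        intro f hf
        obtain ⟨c, hc⟩ := (hs ⟨U, hU⟩).2 f hf
        rw [hc]
        exact Ideal.sum_mem _ fun g hg => Ideal.mul_mem_left _ _ (hcon ⟨g, hg⟩)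
      have hz : z ∈ Proj.basicOpen (𝒜.deg U hU) g.1 := hg
      rw [← Proj.opensRange_awayι (𝒜.deg U hU) g.1 ((hs ⟨U, hU⟩).1 _ g.2) one_pos] at hz
      obtain ⟨w, hw⟩ := hz
      exact ⟨⟨⟨U, hU⟩, g⟩, w, by rw [← hw]; rfl⟩
    exact le_antisymm (ModPairLib.le_of_comap_le _ hcov fun k => (hcomap k).le)
      (ModPairLib.le_of_comap_le _ hcov fun k => (hcomap k).ge)
  haveI := IsClosedImmersion.isIso_lift h i hk
  refine ⟨ℬ, PB, pB, chartB, asIso (IsClosedImmersion.lift h i hk.le), fun U hU => ?_, fun U hU => ?_, hB, ?_⟩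
  · rw [eq_top_iff]
    intro b _
    obtain ⟨a, rfl⟩ := hsurj U hU b
    have ha : a ∈ Subring.closure ((𝒜.deg U hU 0 : Set (𝒜.presheaf.obj (op U))) ∪ (𝒜.deg U hU 1 : Set _)) :=
      hgen U hU ▸ trivial
    have : φ U hU a ∈ Subring.map (φ U hU).toRingHom
        (Subring.closure ((𝒜.deg U hU 0 : Set (𝒜.presheaf.obj (op U))) ∪ (𝒜.deg U hU 1 : Set _))) :=
      Subring.mem_map.2 ⟨a, ha, rfl⟩
    rw [RingHom.map_closure, Set.image_union] at this
    exact Subring.closure_mono (Set.union_subset_union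
      (Set.image_subset_iff.2 fun x hx => (φ U hU).map_mem hx)
      (Set.image_subset_iff.2 fun x hx => (φ U hU).map_mem hx)) this
  · obtain ⟨T, hT, hspan⟩ := hFT U hU
    refine ⟨T.image (φ U hU), by
      rw [Finset.coe_image]; exact Set.image_subset_iff.2 fun x hx => (φ U hU).map_mem (hT hx), fun x hx => ?_⟩
    obtain ⟨a, ha, rfl⟩ := Proj16.exists_mem_of_surjective (φ U hU) (hsurj U hU) hx
    obtain ⟨c, rfl⟩ := hspan a ha
    refine ⟨fun g => ∑ t ∈ T.filter (fun t => φ U hU t = g), c t, ?_⟩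
    rw [map_sum]
    refine (Finset.sum_image' (fun t => φ U hU ((𝒜.str.app (op U)).hom (c t) * t)) fun t ht => ?_).symm
    rw [map_sum, Finset.sum_mul]
    exact Finset.sum_congr rfl fun t' ht' => by rw [map_mul, hstr, (Finset.mem_filter.1 ht').2]
  · show IsClosedImmersion.lift h i hk.le ≫ pB = i ≫ p
    rw [← hcomp, IsClosedImmersion.lift_fac_assoc]

/-- Precomposing a projective morphism with a closed immersion. -/
theorem isProjective_comp_closedImmersion {X : Scheme.{u}} (g : X ⟶ S) (hg : RelProj.IsProjective g)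
    {W : Scheme.{u}} (j : W ⟶ X) [IsClosedImmersion j] : RelProj.IsProjective (j ≫ g) := by
  obtain ⟨𝒮, Q, q, ch, e, hgen, hft, hQ, he⟩ := hg
  rw [← he, ← Category.assoc]
  exact isProjective_of_closedImmersion_relProj 𝒮 hQ hft (j ≫ e.hom) hgen

end Groth.Agent.Chow34
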